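import Mathlib
import Cfsg.Agent.Lib.Helper10.M23H2.Dual

/-!
# S2651 leaf D7a (baer_setting), core version   (helper8)
The Baer difference of two extensions of `M23` by the cocode module is again such an extension.
The only non-generic input is the statement of D2 `dot_B0_of_mem`, taken as a hypothesis here.
-/

set_option autoImplicit false

namespace Cfsg.Agent.Lib.Helper8.M23H2Leaf

open Cfsg Cfsg.Agent.Lib.Helper10.M23H2

/-- `dotM` is additive in the word (D2 `dotM_add`, own copy) -/
theorem dotM_add' (u v : GolayPt → ZMod 2) (b : ℕ) : dotM (u + v) b = dotM u b + dotM v b := by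
  unfold dotM
  rw [← Finset.sum_add_distrib]
  refine Finset.sum_congr rfl ?_
  intro q _
  split_ifs
  · rfl
  · rw [add_zero]

/-- the statement of D2 `dot_B0_of_mem` -/
def DotB0 : Prop :=
  ∀ w : GolayPt → ZMod 2, (w ∈ golayCode ∨ w + Pi.single none 1 ∈ golayCode) → ∀ b ∈ B0, dotM w b = 0

/-- D3 `kap_theta` from `DotB0` (generic in the setting) -/
theorem kap_theta' (hdot : DotB0) {E : Type*} [Group E] (S : CSetting E) (w : GolayPt → ZMod 2) (j : ℕ)
    (hj : j < 11) : S.kap (S.theta w) j = dotM w (B0.getD j 0) := by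
  classical
  unfold CSetting.kap
  have hex : ∃ w', S.theta w' = S.theta w := ⟨w, rfl⟩
  rw [dif_pos hex]
  set w' := Classical.choose hex with hw'
  have hw'eq : S.theta w' = S.theta w := Classical.choose_spec hex
  have h1 : S.theta (w' + w) = 1 := by
    rw [S.theta_add, hw'eq, S.theta_sq]
  have hb : B0.getD j 0 ∈ B0 := by
    have hlen : B0.length = 11 := by decide
    rw [List.getD_eq_getElem _ _ (by rw [hlen]; exact hj)]
    exact List.getElem_mem _
  have h0 := hdot (w' + w) ((S.theta_ker _).mp h1) _ hb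
  rw [dotM_add'] at h0
  have := CharTwo.add_eq_zero.mp h0
  exact this

section
variable {E E' : Type*} [Group E] [Group E'] (S : CSetting E) (S' : CSetting E')

/-- the projection of the fibre product to `M23` -/
def baerPsi : baerF S S' →* Equiv.Perm GolayPt :=
  (S.pi.comp (MonoidHom.fst E E')).comp (baerF S S').subtype

theorem baerPsi_apply (x : baerF S S') : baerPsi S S' x = S.pi x.1.1 := rfl

theorem baerDelta_le_ker : baerDelta S S' ≤ (baerPsi S S').ker := by
  rintro x ⟨w, hw⟩
  rw [MonoidHom.mem_ker, baerPsi_apply, hw]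
  exact S.pi_theta w

/-- the projection of the Baer difference -/
def baerPi : BaerD S S' →* Equiv.Perm GolayPt :=
  QuotientGroup.lift (baerDelta S S') (baerPsi S S') (baerDelta_le_ker S S')

theorem baerPi_mk (x : baerF S S') : baerPi S S' (QuotientGroup.mk x) = S.pi x.1.1 := rfl

/-- the element `(theta w, 1)` of the fibre product -/
def baerL (w : GolayPt → ZMod 2) : baerF S S' :=
  ⟨(S.theta w, 1), by
    show S.pi (S.theta w) = S'.pi 1
    rw [S.pi_theta, map_one]⟩

/-- the element `(1, theta' w)` of the fibre product -/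
def baerR (w : GolayPt → ZMod 2) : baerF S S' :=
  ⟨(1, S'.theta w), by
    show S.pi 1 = S'.pi (S'.theta w)
    rw [S'.pi_theta, map_one]⟩

/-- the parametrisation of the kernel of the Baer difference -/
def baerTheta (w : GolayPt → ZMod 2) : BaerD S S' := QuotientGroup.mk (baerL S S' w)

theorem baerL_add (u v : GolayPt → ZMod 2) : baerL S S' (u + v) = baerL S S' u * baerL S S' v := by
  apply Subtype.ext
  show (S.theta (u + v), (1 : E')) = (S.theta u, 1) * (S.theta v, 1)
  rw [S.theta_add, Prod.mk_mul_mk, one_mul]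

theorem mk_baerR_eq (w : GolayPt → ZMod 2) :
    (QuotientGroup.mk (baerR S S' w) : BaerD S S') = QuotientGroup.mk (baerL S S' w) := by
  rw [QuotientGroup.eq]
  refine ⟨w, ?_⟩
  show (((1 : E), S'.theta w)⁻¹ * (S.theta w, (1 : E'))) = (S.theta w, S'.theta w)
  rw [Prod.inv_mk, Prod.mk_mul_mk, S'.theta_inv, inv_one, mul_one, one_mul]

/-- an element of the fibre product over `1 ∈ M23` is `theta (w + w')` modulo the diagonal -/
theorem mk_eq_baerTheta (x : baerF S S') (w w' : GolayPt → ZMod 2) (hw : S.theta w = x.1.1)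
    (hw' : S'.theta w' = x.1.2) :
    (QuotientGroup.mk x : BaerD S S') = baerTheta S S' (w + w') := by
  have hx : x = baerL S S' w * baerR S S' w' := by
    apply Subtype.ext
    show (x : E × E') = (S.theta w, 1) * (1, S'.theta w')
    rw [Prod.mk_mul_mk, mul_one, one_mul, hw, hw']
  unfold baerTheta
  rw [hx, QuotientGroup.mk_mul, mk_baerR_eq, ← QuotientGroup.mk_mul, ← baerL_add]

theorem baerTheta_eq_one_iff (w : GolayPt → ZMod 2) : baerTheta S S' w = 1 ↔ S.theta w = 1 := by
  unfold baerTheta
  rw [QuotientGroup.eq_one_iff]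
  constructor
  · rintro ⟨u, hu⟩
    have h1 : S.theta w = S.theta u := congrArg Prod.fst hu
    have h2 : (1 : E') = S'.theta u := congrArg Prod.snd hu
    have h3 : S.theta u = 1 := by
      rw [S.theta_ker, ← S'.theta_ker]
      exact h2.symm
    rw [h1, h3]
  · intro h
    refine ⟨0, ?_⟩
    show (S.theta w, (1 : E')) = (S.theta 0, S'.theta 0)
    rw [h, S.theta_zero, S'.theta_zero]

/-- the Baer difference as a `CSetting` -/
noncomputable def baerT : CSetting (BaerD S S') where
  N := (baerPi S S').ker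
  pi := baerPi S S'
  theta := baerTheta S S'
  mem_N := fun g => MonoidHom.mem_ker
  theta_add := by
    intro u v
    unfold baerTheta
    rw [baerL_add, QuotientGroup.mk_mul]
  theta_ker := by
    intro w
    rw [baerTheta_eq_one_iff, S.theta_ker]
  theta_conj := by
    intro g w
    obtain ⟨x, rfl⟩ := QuotientGroup.mk_surjective g
    rw [baerPi_mk]
    unfold baerTheta
    rw [← QuotientGroup.mk_inv, ← QuotientGroup.mk_mul, ← QuotientGroup.mk_mul]
    congr 1
    apply Subtype.ext
    show (S.theta (w ∘ ⇑(S.pi x.1.1)⁻¹), (1 : E')) = (x : E × E') * (S.theta w, 1) * (x : E × E')⁻¹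
    rw [S.theta_conj]
    ext
    · simp
    · simp
  theta_surj := by
    intro n hn
    obtain ⟨x, rfl⟩ := QuotientGroup.mk_surjective n
    rw [MonoidHom.mem_ker, baerPi_mk] at hn
    have hn' : S'.pi x.1.2 = 1 := by
      have : S.pi x.1.1 = S'.pi x.1.2 := x.2
      rw [← this, hn]
    obtain ⟨w, hw⟩ := S.theta_surj x.1.1 ((S.mem_N _).mpr hn)
    obtain ⟨w', hw'⟩ := S'.theta_surj x.1.2 ((S'.mem_N _).mpr hn')
    exact ⟨w + w', (mk_eq_baerTheta S S' x w w' hw hw').symm⟩
  theta_mem := by
    intro w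
    rw [MonoidHom.mem_ker]
    unfold baerTheta
    rw [baerPi_mk]
    exact S.pi_theta w
  pi_mem := by
    intro g
    obtain ⟨x, rfl⟩ := QuotientGroup.mk_surjective g
    rw [baerPi_mk]
    exact S.pi_mem _
  pi_surj := by
    intro σ hσ
    obtain ⟨e, he⟩ := S.pi_surj σ hσ
    obtain ⟨e', he'⟩ := S'.pi_surj σ hσ
    refine ⟨QuotientGroup.mk ⟨(e, e'), ?_⟩, ?_⟩
    · show S.pi e = S'.pi e'
      rw [he, he']
    · rw [baerPi_mk]
      exact he

theorem baer_setting_core (hdot : DotB0) :
    ∃ T : CSetting (BaerD S S'),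
      (∀ x : baerF S S', T.pi (QuotientGroup.mk x) = S.pi x.1.1) ∧
      (∀ (x : baerF S S'), x.1.1 ∈ S.N → ∀ j < 11,
        T.kap (QuotientGroup.mk x) j = S.kap x.1.1 j + S'.kap x.1.2 j) := by
  refine ⟨baerT S S', fun x => rfl, ?_⟩
  intro x hx j hj
  have hn : S.pi x.1.1 = 1 := (S.mem_N _).mp hx
  have hn' : S'.pi x.1.2 = 1 := by
    have : S.pi x.1.1 = S'.pi x.1.2 := x.2
    rw [← this, hn]
  obtain ⟨w, hw⟩ := S.theta_surj x.1.1 hx
  obtain ⟨w', hw'⟩ := S'.theta_surj x.1.2 ((S'.mem_N _).mpr hn')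
  have hmk : (QuotientGroup.mk x : BaerD S S') = (baerT S S').theta (w + w') :=
    mk_eq_baerTheta S S' x w w' hw hw'
  rw [hmk, kap_theta' hdot (baerT S S') (w + w') j hj, dotM_add', ← hw, ← hw',
    kap_theta' hdot S w j hj, kap_theta' hdot S' w' j hj]

end

end Cfsg.Agent.Lib.Helper8.M23H2Leaf
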