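import Mathlib
import Cfsg.Agent.Lib.Helper8.M23H2.D7acore
import Cfsg.Agent.Lib.Helper4.M23H2.D2

/-!
# S2651 leaf D7a (baer_setting), exact signature   (helper8)
-/

set_option autoImplicit false

namespace Cfsg.Agent.Lib.Helper8.M23H2Leaf

open Cfsg Cfsg.Agent.Lib.Helper10.M23H2

/-- the Baer difference is again an extension of `M23` by the cocode module; its lifts, tails and
coordinates are those of the pairs -/
theorem baer_setting {E E' : Type*} [Group E] [Group E'] (S : CSetting E) (S' : CSetting E') :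
    ∃ T : CSetting (BaerD S S'),
      (∀ x : baerF S S', T.pi (QuotientGroup.mk x) = S.pi x.1.1) ∧
      (∀ (x : baerF S S'), x.1.1 ∈ S.N → ∀ j < 11,
        T.kap (QuotientGroup.mk x) j = S.kap x.1.1 j + S'.kap x.1.2 j) :=
  baer_setting_core S S' (fun w h => Cfsg.Agent.Lib.Helper4.M23H2Leaf.dot_B0_of_mem w h)

end Cfsg.Agent.Lib.Helper8.M23H2Leaf
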