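import Mathlib
import Cfsg.Agent.Lib.Helper10.M23H2.Dual

/-!
# S2651 leaf D7b (baer_iso)   (helper8)
A complement in the Baer difference of two extensions gives an isomorphism of the extensions.
-/

set_option autoImplicit false

namespace Cfsg.Agent.Lib.Helper8.M23H2Leaf

open Cfsg Cfsg.Agent.Lib.Helper10.M23H2

section
variable {E E' : Type*} [Group E] [Group E'] (S : CSetting E) (S' : CSetting E')

/-- the two kernels are parametrised with the same kernel -/
theorem theta_one_iff_theta_one (w : GolayPt → ZMod 2) : S.theta w = 1 ↔ S'.theta w = 1 := by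
  rw [S.theta_ker, S'.theta_ker]

/-- the subgroup of the fibre product lying over a subgroup of the Baer difference -/
def baerK (H : Subgroup (BaerD S S')) : Subgroup (baerF S S') :=
  H.comap (QuotientGroup.mk' (baerDelta S S'))

/-- first projection on `baerK` -/
def baerFst (H : Subgroup (BaerD S S')) : baerK S S' H →* E :=
  (MonoidHom.fst E E').comp ((baerF S S').subtype.comp (baerK S S' H).subtype)

/-- second projection on `baerK` -/
def baerSnd (H : Subgroup (BaerD S S')) : baerK S S' H →* E' :=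
  (MonoidHom.snd E E').comp ((baerF S S').subtype.comp (baerK S S' H).subtype)

theorem baerFst_apply (H : Subgroup (BaerD S S')) (x : baerK S S' H) :
    baerFst S S' H x = x.1.1.1 := rfl

theorem baerSnd_apply (H : Subgroup (BaerD S S')) (x : baerK S S' H) :
    baerSnd S S' H x = x.1.1.2 := rfl

variable (T : CSetting (BaerD S S'))
  (hT : ∀ x : baerF S S', T.pi (QuotientGroup.mk x) = S.pi x.1.1)
  (H : Subgroup (BaerD S S')) (h1 : H ⊓ T.N = ⊥) (h2 : H ⊔ T.N = ⊤)

include hT h1 in
/-- an element of `baerK` over `1 ∈ M23` lies in the diagonal -/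
theorem mem_delta_of_pi_one (x : baerF S S') (hx : x ∈ baerK S S' H) (hpi : S.pi x.1.1 = 1) :
    x ∈ baerDelta S S' := by
  have hxH : (QuotientGroup.mk x : BaerD S S') ∈ H := hx
  have hxN : (QuotientGroup.mk x : BaerD S S') ∈ T.N := by
    rw [T.mem_N, hT, hpi]
  have : (QuotientGroup.mk x : BaerD S S') ∈ H ⊓ T.N := ⟨hxH, hxN⟩
  rw [h1, Subgroup.mem_bot] at this
  exact (QuotientGroup.eq_one_iff x).mp this

include hT h1 in
theorem baerFst_injective : Function.Injective (baerFst S S' H) := by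
  rw [injective_iff_map_eq_one]
  intro x hx
  rw [baerFst_apply] at hx
  have hd := mem_delta_of_pi_one S S' T hT H h1 x.1 x.2 (by rw [hx, map_one])
  obtain ⟨w, hw⟩ := hd
  have h1' : S.theta w = 1 := by
    have := congrArg Prod.fst hw
    simp only at this
    rw [← this, hx]
  have h2' : S'.theta w = 1 := (theta_one_iff_theta_one S S' w).mp h1'
  apply Subtype.ext
  apply Subtype.ext
  rw [hw, h1', h2']
  rfl

include hT h1 in
theorem baerSnd_injective : Function.Injective (baerSnd S S' H) := by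
  rw [injective_iff_map_eq_one]
  intro x hx
  rw [baerSnd_apply] at hx
  have hmem : S.pi x.1.1.1 = S'.pi x.1.1.2 := x.1.2
  have hd := mem_delta_of_pi_one S S' T hT H h1 x.1 x.2 (by rw [hmem, hx, map_one])
  obtain ⟨w, hw⟩ := hd
  have h2' : S'.theta w = 1 := by
    have := congrArg Prod.snd hw
    simp only at this
    rw [← this, hx]
  have h1' : S.theta w = 1 := (theta_one_iff_theta_one S S' w).mpr h2'
  apply Subtype.ext
  apply Subtype.ext
  rw [hw, h1', h2']
  rfl

include hT h2 in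
/-- every element of the fibre product is `k * y` with `k ∈ baerK` and `y` over `1 ∈ M23` -/
theorem exists_decomp (x₀ : baerF S S') :
    ∃ k ∈ baerK S S' H, ∃ y : baerF S S', S.pi y.1.1 = 1 ∧ x₀ = k * y := by
  have : T.N.Normal := by
    have : T.N = T.pi.ker := by
      ext g
      rw [T.mem_N, MonoidHom.mem_ker]
    rw [this]
    infer_instance
  have hx : (QuotientGroup.mk x₀ : BaerD S S') ∈ H ⊔ T.N := by rw [h2]; trivial
  rw [← SetLike.mem_coe, Subgroup.mul_normal, Set.mem_mul] at hx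
  obtain ⟨h, hh, n, hn, hhn⟩ := hx
  obtain ⟨k, rfl⟩ := QuotientGroup.mk_surjective h
  obtain ⟨y, rfl⟩ := QuotientGroup.mk_surjective n
  rw [← QuotientGroup.mk_mul, QuotientGroup.eq] at hhn
  -- (k*y)⁻¹ * x₀ ∈ Delta
  have hy : S.pi y.1.1 = 1 := by
    have hn' : (QuotientGroup.mk y : BaerD S S') ∈ T.N := hn
    rw [T.mem_N, hT] at hn'
    exact hn'
  obtain ⟨w, hw⟩ := hhn
  -- d := (k*y)⁻¹ * x₀ is diagonal; x₀ = k * (y * d)
  refine ⟨k, hh, y * ((k * y)⁻¹ * x₀), ?_, by group⟩
  rw [Subgroup.coe_mul, Prod.fst_mul, map_mul, hy, one_mul, hw]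
  exact S.pi_theta w

include hT h2 in
theorem baerFst_surjective : Function.Surjective (baerFst S S' H) := by
  intro e
  obtain ⟨e', he'⟩ := S'.pi_surj (S.pi e) (S.pi_mem e)
  let x₀ : baerF S S' := ⟨(e, e'), he'.symm⟩
  obtain ⟨k, hk, y, hy, hxy⟩ := exists_decomp S S' T hT H h2 x₀
  -- y = (n, n') with n = S.theta w; multiply k by the diagonal element
  obtain ⟨w, hw⟩ := S.theta_surj y.1.1 ((S.mem_N _).mpr hy)
  let d : baerF S S' := ⟨(S.theta w, S'.theta w), by
    show S.pi (S.theta w) = S'.pi (S'.theta w)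
    rw [S.pi_theta, S'.pi_theta]⟩
  have hd : d ∈ baerDelta S S' := ⟨w, rfl⟩
  have hkd : k * d ∈ baerK S S' H := by
    show (QuotientGroup.mk (k * d) : BaerD S S') ∈ H
    rw [QuotientGroup.mk_mul, (QuotientGroup.eq_one_iff d).mpr hd, mul_one]
    exact hk
  refine ⟨⟨k * d, hkd⟩, ?_⟩
  rw [baerFst_apply]
  have h3 : (x₀ : E × E').1 = (k : E × E').1 * (y : E × E').1 := by
    rw [hxy, Subgroup.coe_mul, Prod.fst_mul]
  show ((k * d : baerF S S') : E × E').1 = e
  rw [Subgroup.coe_mul, Prod.fst_mul]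
  show (k : E × E').1 * S.theta w = e
  rw [hw]
  exact h3.symm

include hT h2 in
theorem baerSnd_surjective : Function.Surjective (baerSnd S S' H) := by
  intro e'
  obtain ⟨e, he⟩ := S.pi_surj (S'.pi e') (S'.pi_mem e')
  let x₀ : baerF S S' := ⟨(e, e'), he⟩
  obtain ⟨k, hk, y, hy, hxy⟩ := exists_decomp S S' T hT H h2 x₀
  have hy' : S'.pi y.1.2 = 1 := by
    have : S.pi y.1.1 = S'.pi y.1.2 := y.2
    rw [← this, hy]
  obtain ⟨w, hw⟩ := S'.theta_surj y.1.2 ((S'.mem_N _).mpr hy')
  let d : baerF S S' := ⟨(S.theta w, S'.theta w), by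
    show S.pi (S.theta w) = S'.pi (S'.theta w)
    rw [S.pi_theta, S'.pi_theta]⟩
  have hd : d ∈ baerDelta S S' := ⟨w, rfl⟩
  have hkd : k * d ∈ baerK S S' H := by
    show (QuotientGroup.mk (k * d) : BaerD S S') ∈ H
    rw [QuotientGroup.mk_mul, (QuotientGroup.eq_one_iff d).mpr hd, mul_one]
    exact hk
  refine ⟨⟨k * d, hkd⟩, ?_⟩
  rw [baerSnd_apply]
  have h3 : (x₀ : E × E').2 = (k : E × E').2 * (y : E × E').2 := by
    rw [hxy, Subgroup.coe_mul, Prod.snd_mul]
  show ((k * d : baerF S S') : E × E').2 = e'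
  rw [Subgroup.coe_mul, Prod.snd_mul]
  show (k : E × E').2 * S'.theta w = e'
  rw [hw]
  exact h3.symm

end

/-- a complement in the Baer difference gives an isomorphism -/
theorem baer_iso {E E' : Type*} [Group E] [Group E'] (S : CSetting E) (S' : CSetting E')
    (T : CSetting (BaerD S S'))
    (hT : ∀ x : baerF S S', T.pi (QuotientGroup.mk x) = S.pi x.1.1)
    (H : Subgroup (BaerD S S')) (h1 : H ⊓ T.N = ⊥) (h2 : H ⊔ T.N = ⊤) :
    Nonempty (E ≃* E') := by
  let e1 : baerK S S' H ≃* E := MulEquiv.ofBijective (baerFst S S' H)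
    ⟨baerFst_injective S S' T hT H h1, baerFst_surjective S S' T hT H h2⟩
  let e2 : baerK S S' H ≃* E' := MulEquiv.ofBijective (baerSnd S S' H)
    ⟨baerSnd_injective S S' T hT H h1, baerSnd_surjective S S' T hT H h2⟩
  exact ⟨e1.symm.trans e2⟩

end Cfsg.Agent.Lib.Helper8.M23H2Leaf
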